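import Groth.Agent.SexticCurve.Pencil
import Groth.Agent.CurveFF.Canonical
import Groth.Agent.CurveVA.Converse

/-!
# Special nondegenerate space curves of degree six

Such a curve has genus four and is embedded by its differentials.
-/

noncomputable section

set_option autoImplicit false
set_option linter.style.haveILetI false
set_option linter.unusedSectionVars false
set_option backward.isDefEq.respectTransparency false
set_option backward.isDefEq.respectTransparency.types false
set_option maxHeartbeats 1000000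
set_option synthInstance.maxHeartbeats 400000

universe u

open CategoryTheory CategoryTheory.Limits AlgebraicGeometry TopologicalSpace Opposite

namespace Groth.Agent.SexticCurve

open Groth.Agent Groth.Agent.CurvePoint

variable {X : Scheme.{u}}

/-- Cancelling an inverse pair inside a product of two pairs. -/
def residualIso {A C : X.Modules} (e : CohB1.tensorMod A C ≅ Coh.structureModule X) (B E : X.Modules) :
    CohB1.tensorMod (CohB1.tensorMod A B) (CohB1.tensorMod C E) ≅ CohB1.tensorMod B E :=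
  middleIso A B C E ≪≫ cancelLeft e (CohB1.tensorMod B E)

/-- Congruence on the right factor. -/
def congrRight (W : X.Modules) {A B : X.Modules} (e : A ≅ B) : CohB1.tensorMod W A ≅ CohB1.tensorMod W B :=
  (DCoh.tensorBi.obj W).mapIso e

/-- Congruence on the left factor. -/
def congrLeft {A B : X.Modules} (e : A ≅ B) (W : X.Modules) : CohB1.tensorMod A W ≅ CohB1.tensorMod B W :=
  (AmpleVan.tw W).mapIso e

/-- Symmetry of the tensor product. -/
def comm (A B : X.Modules) : CohB1.tensorMod A B ≅ CohB1.tensorMod B A := CurveTensor.commIso A B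

/-- Moving two factors to the front. -/
def rotateIso (W A B : X.Modules) :
    CohB1.tensorMod W (CohB1.tensorMod A B) ≅ CohB1.tensorMod B (CohB1.tensorMod A W) :=
  (congrRight W (comm A B)).trans ((swapIso W B A).trans (congrRight B (comm W A)))

/-- Rearranging three factors. -/
def shuffleIso (D M W : X.Modules) :
    CohB1.tensorMod (CohB1.tensorMod D M) W ≅ CohB1.tensorMod (CohB1.tensorMod D W) M :=
  (AmpleVan.assocT D M W).trans ((congrRight D (comm M W)).trans (AmpleVan.assocT D W M).symm)

variable (k : Type u) [Field k] [X.Over (Spec (CommRingCat.of k))]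

theorem h0_congr {A B : X.Modules} (e : A ≅ B) :
    Module.finrank k (Coh.HH X A 0) = Module.finrank k (Coh.HH X B 0) :=
  (CurveCohLib.hhEquiv (k := k) e 0).finrank_eq

variable [IsAlgClosed k] [IsIntegral X] [IsProper (X ↘ Spec (CommRingCat.of k))]
  [Smooth (X ↘ Spec (CommRingCat.of k))]

theorem deg_pair (hdim : topologicalKrullDim X = 1) {a b : X} (ha : IsClosed ({a} : Set X))
    (hb : IsClosed ({b} : Set X)) :
    Curv2.deg k X (CohB1.tensorMod (ptMod a ha) (ptMod b hb)) 1 = -2 := by
  have h := CurveRR.deg_tensor k hdim (isInvertible_ptMod a ha k hdim) (isInvertible_ptMod b hb k hdim)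
  rw [deg_ptMod a ha k, deg_ptMod b hb k] at h
  exact h.trans (by norm_num)

/-- A pencil of small degree with few sections on adding the residual series has degree two. -/
theorem exists_pencil_two (hdim : topologicalKrullDim X = 1) {R M : X.Modules} (hR : PicF.IsInvertible R)
    (hg : 5 ≤ Curv2.genus k X) (hdR : Curv2.deg k X R 1 = 2 * (Curv2.genus k X : ℤ) - 8)
    (hR0 : Module.finrank k (Coh.HH X R 0) + 3 = Curv2.genus k X)
    (hM : PicF.IsInvertible M) (hM2 : Module.finrank k (Coh.HH X M 0) = 2)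
    (hdM : Curv2.deg k X M 1 = ((4 : ℕ) : ℤ))
    (hRM : Module.finrank k (Coh.HH X (CohB1.tensorMod R M) 0) + 2 = Curv2.genus k X) :
    ∃ M' : X.Modules, PicF.IsInvertible M' ∧ Module.finrank k (Coh.HH X M' 0) = 2 ∧ Curv2.deg k X M' 1 = 2 := by
  obtain ⟨M', hM', h2', hgg, hle⟩ := exists_bpf_pencil k hdim hR 4 M hM hM2 hdM
  obtain ⟨D', hD', hdD', ⟨e'⟩⟩ := CurveDuality.exists_inverse_deg k hdim hM'
  have hpen := two_mul_h0_le_add k hdim hM' hD' e' h2' hgg _ R hR rfl
  have hcomm : Module.finrank k (Coh.HH X (CohB1.tensorMod M' R) 0) =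
      Module.finrank k (Coh.HH X (CohB1.tensorMod R M') 0) := h0_congr k (comm M' R)
  have hE : PicF.IsInvertible (CohB1.tensorMod D' R) := InvX.isInvertible_tensorMod hD' hR
  have hdE : Curv2.deg k X (CohB1.tensorMod D' R) 1 = 2 * (Curv2.genus k X : ℤ) - 8 - Curv2.deg k X M' 1 := by
    have h1 : Curv2.deg k X (CohB1.tensorMod D' R) 1 = _ := CurveRR.deg_tensor k hdim hD' hR
    have h2 := CurveRR.deg_tensor k hdim hM' hD'
    have h3 := CurveRR.deg_congr k e' 1
    rw [CurveDeg.deg_structureModule] at h3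
    rw [h1, hdR]
    linarith
  have hcl := CurveCohLib.Clifford.dichotomy k hdim hE (m := Curv2.genus k X - 5) (by omega)
  have hlow := CurveCohLib.Clifford.dichotomy k hdim hM' (m := 1) (by omega)
  refine ⟨M', hM', h2', ?_⟩
  rw [hdE] at hcl
  omega

/-- A module of degree two with two sections is inverse to a pair of points. -/
theorem exists_pair (hdim : topologicalKrullDim X = 1) {M : X.Modules} (hM : PicF.IsInvertible M)
    (hd : Curv2.deg k X M 1 = 2) (h2 : 2 ≤ Module.finrank k (Coh.HH X M 0)) :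
    ∃ (q p : X) (hq : IsClosed ({q} : Set X)) (hp : IsClosed ({p} : Set X)),
      Nonempty (CohB1.tensorMod (CohB1.tensorMod (ptMod q hq) (ptMod p hp)) M ≅ Coh.structureModule X) := by
  obtain ⟨p₀, hp₀⟩ := (CurveGenusZero.exists_regular_closed k hdim (X := X)).imp fun p h => h.1
  have hQ := InvX.isInvertible_tensorMod (isInvertible_ptMod p₀ hp₀ k hdim) hM
  have hdQ : Curv2.deg k X (CohB1.tensorMod (ptMod p₀ hp₀) M) 1 = 1 := by
    have h := CurveRR.deg_tensor k hdim (isInvertible_ptMod p₀ hp₀ k hdim) hM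
    rw [deg_ptMod p₀ hp₀ k, hd] at h
    exact h.trans (by norm_num)
  have hQ0 := CurveVA.h0_twist_ge k hM hp₀
  obtain ⟨q, hq, hq0⟩ := CurveVA.exists_base_point k hdim hQ hdQ (by omega)
  have hdT : Curv2.deg k X (CohB1.tensorMod (ptMod q hq) (CohB1.tensorMod (ptMod p₀ hp₀) M)) 1 = 0 := by
    have h := CurveRR.deg_tensor k hdim (isInvertible_ptMod q hq k hdim) hQ
    rw [deg_ptMod q hq k, hdQ] at h
    exact h.trans (by norm_num)
  obtain ⟨φ⟩ := nonempty_iso_of_deg_zero k hdim
    (InvX.isInvertible_tensorMod (isInvertible_ptMod q hq k hdim) hQ) hdT hq0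
  exact ⟨q, p₀, hq, hp₀, ⟨AmpleVan.assocT (ptMod q hq) (ptMod p₀ hp₀) M ≪≫ φ.symm⟩⟩

variable {ω : X.Modules} {μ : Coh.HH X ω 1 →ₗ[k] k}

/-- A module of degree six with four sections, separating pairs of points, forces genus at most four. -/
theorem genus_le_four (hdim : topologicalKrullDim X = 1) (hω : CurveDuality.IsDualizing k ω μ)
    {L : X.Modules} (hL : PicF.IsInvertible L)
    (hd : Curv2.deg k X L 1 = 6) (h0 : Module.finrank k (Coh.HH X L 0) = 4)
    (hsep : ∀ (a b : X) (ha : IsClosed ({a} : Set X)) (hb : IsClosed ({b} : Set X)),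
      Module.finrank k (Coh.HH X (CohB1.tensorMod L (CohB1.tensorMod (ptMod a ha) (ptMod b hb))) 0) + 2 =
        Module.finrank k (Coh.HH X L 0)) :
    Curv2.genus k X ≤ 4 := by
  by_contra hg
  obtain ⟨D, hD, hdD, ⟨e⟩⟩ := CurveDuality.exists_inverse_deg k hdim hL
  obtain ⟨hΩ0, -, hΩd⟩ := CurveDuality.canonical_invariants k
    (CurveCohLib.Clifford.finrank_h0_structure k (X := X)) hω hdim
  have hR : PicF.IsInvertible (CohB1.tensorMod D ω) := InvX.isInvertible_tensorMod hD hω.inv
  have hdR : Curv2.deg k X (CohB1.tensorMod D ω) 1 = 2 * (Curv2.genus k X : ℤ) - 8 := by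
    have h2 := CurveRR.deg_tensor k hdim hL hD
    have h3 := CurveRR.deg_congr k e 1
    rw [CurveDeg.deg_structureModule] at h3
    refine (CurveRR.deg_tensor k hdim hD hω.inv).trans ?_
    rw [hΩd]
    linarith
  have hR0 : Module.finrank k (Coh.HH X (CohB1.tensorMod D ω) 0) + 3 = Curv2.genus k X := by
    have h1 := CurveCohLib.Clifford.deg_eq k hdim hL
    have h2 : Module.finrank k (Coh.HH X L 1) = Module.finrank k (Coh.HH X (CohB1.tensorMod D ω) 0) :=
      CurveDuality.finrank_h1_eq k hω hdim hL e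
    rw [hd, h0, h2] at h1
    omega
  obtain ⟨a, ha, hlt⟩ := CurveVA.exists_point_h0_lt k hdim hω.inv (by omega)
  obtain ⟨b, hb, hlt'⟩ := CurveVA.exists_point_h0_lt k hdim
    (InvX.isInvertible_tensorMod (isInvertible_ptMod a ha k hdim) hω.inv) (by omega)
  have hP := InvX.isInvertible_tensorMod (isInvertible_ptMod a ha k hdim) (isInvertible_ptMod b hb k hdim)
  have hRM : Module.finrank k (Coh.HH X (CohB1.tensorMod (CohB1.tensorMod D ω)
      (CohB1.tensorMod L (CohB1.tensorMod (ptMod a ha) (ptMod b hb)))) 0) + 2 = Curv2.genus k X := by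
    rw [h0_congr k (residualIso ((comm D L).trans e) ω (CohB1.tensorMod (ptMod a ha) (ptMod b hb)) ≪≫
      rotateIso ω (ptMod a ha) (ptMod b hb))]
    omega
  have hdM : Curv2.deg k X (CohB1.tensorMod L (CohB1.tensorMod (ptMod a ha) (ptMod b hb))) 1 = ((4 : ℕ) : ℤ) := by
    refine (CurveRR.deg_tensor k hdim hL hP).trans ?_
    rw [hd, deg_pair k hdim ha hb]; norm_num
  have hsab := hsep a b ha hb
  obtain ⟨M', hM', h2', hd2⟩ := exists_pencil_two k hdim hR (by omega) hdR hR0
    (InvX.isInvertible_tensorMod hL hP) (by omega) hdM hRM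
  obtain ⟨q, p, hq, hp, ⟨eP⟩⟩ := exists_pair k hdim hM' hd2 h2'.ge
  have hQP := InvX.isInvertible_tensorMod (isInvertible_ptMod q hq k hdim) (isInvertible_ptMod p hp k hdim)
  have hLP := InvX.isInvertible_tensorMod hL hQP
  have hs := hsep q p hq hp
  have hdLP : Curv2.deg k X (CohB1.tensorMod L (CohB1.tensorMod (ptMod q hq) (ptMod p hp))) 1 = 4 := by
    refine (CurveRR.deg_tensor k hdim hL hQP).trans ?_
    rw [hd, deg_pair k hdim hq hp]; norm_num
  have hrr := CurveCohLib.Clifford.deg_eq k hdim hLP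
  have hdual : Module.finrank k (Coh.HH X (CohB1.tensorMod L (CohB1.tensorMod (ptMod q hq) (ptMod p hp))) 1) =
      Module.finrank k (Coh.HH X (CohB1.tensorMod (CohB1.tensorMod D M') ω) 0) :=
    CurveDuality.finrank_h1_eq k hω hdim
      (L := CohB1.tensorMod L (CohB1.tensorMod (ptMod q hq) (ptMod p hp))) (D := CohB1.tensorMod D M') hLP
      ((residualIso e (CohB1.tensorMod (ptMod q hq) (ptMod p hp)) M').trans eP)
  have heq : Module.finrank k (Coh.HH X (CohB1.tensorMod (CohB1.tensorMod D M') ω) 0) =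
      Module.finrank k (Coh.HH X (CohB1.tensorMod (CohB1.tensorMod D ω) M') 0) :=
    h0_congr k (shuffleIso D M' ω)
  obtain ⟨P₁, hP₁, hr⟩ := CurveGenusZero.exists_regular_closed k hdim (X := X)
  haveI := hr
  have hhopf := CurveCohLib.Hopf.finrank_tensor k hdim hP₁ hR hM'
    (Module.nontrivial_of_finrank_pos (R := k) (by omega)) (Module.nontrivial_of_finrank_pos (R := k) (by omega))
  rw [hdLP] at hrr
  omega

/-- A special module of degree six with four sections separating pairs of points is the module of differentials. -/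
theorem iso_omega (hdim : topologicalKrullDim X = 1) {L : X.Modules} (hL : PicF.IsInvertible L)
    (hd : Curv2.deg k X L 1 = 6) (h4 : 4 ≤ Module.finrank k (Coh.HH X L 0))
    (hspecial : Nontrivial (Coh.HH X L 1))
    (hsep : ∀ (a b : X) (ha : IsClosed ({a} : Set X)) (hb : IsClosed ({b} : Set X)),
      Module.finrank k (Coh.HH X (CohB1.tensorMod L (CohB1.tensorMod (ptMod a ha) (ptMod b hb))) 0) + 2 =
        Module.finrank k (Coh.HH X L 0)) :
    Nonempty (L ≅ CurveFF.Ωm k X) ∧ Curv2.genus k X = 4 := by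
  haveI := CurveCohLib.isNoetherian_of_proper (k := k) (X := X)
  haveI := CurveCohLib.finite_HH (k := k) (CurveDeg.isCoh_of_isInvertible hL) 1
  obtain ⟨ω, μ, hω⟩ := CurveDuality.exists_isDualizing k (X := X) hdim
  have hpos : 0 < Module.finrank k (Coh.HH X L 1) := Module.finrank_pos_iff.2 hspecial
  have hrr := CurveCohLib.Clifford.deg_eq k hdim hL
  have hcl := CurveCohLib.Clifford.h0_add_h1_le k hdim hL (Module.nontrivial_of_finrank_pos (R := k) (by omega))
    hspecial
  rw [hd] at hrr
  have h0 : Module.finrank k (Coh.HH X L 0) = 4 := by omega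
  have hle := genus_le_four k hdim hω hL hd h0 hsep
  have hg : Curv2.genus k X = 4 := by omega
  refine ⟨?_, hg⟩
  obtain ⟨i⟩ := CurveFF.nonempty_iso_dualizing k hdim hω
  obtain ⟨D, hD, hdD, ⟨e⟩⟩ := CurveDuality.exists_inverse_deg k hdim hL
  have h2 := CurveDuality.finrank_h1_eq k hω hdim hL e
  haveI : Nontrivial (Coh.HH X ((DCoh.tensorBi.obj D).obj ω) 0) :=
    Module.nontrivial_of_finrank_pos (R := k) (show 0 < Module.finrank k _ from h2 ▸ hpos)
  obtain ⟨t, ht⟩ := exists_ne (0 : Coh.HH X ((DCoh.tensorBi.obj D).obj ω) 0)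
  haveI := (CurveDeg.deg_le_and_isIso k hdim.le hL hω.inv
    (CurveDuality.homOfTwist e ω t) (CurveDuality.homOfTwist_ne_zero e ht)).2
    (by rw [hd, (CurveDuality.canonical_invariants k
      (CurveCohLib.Clifford.finrank_h0_structure k (X := X)) hω hdim).2.2, hg]; norm_num)
  exact ⟨asIso (CurveDuality.homOfTwist e ω t) ≪≫ i.symm⟩

end Groth.Agent.SexticCurve
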