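import Groth.Agent.CurveCohLib.Pencil
import Groth.Agent.CurveCohLib.Clifford
import Groth.Agent.CurveVA.Generic
import Groth.Agent.CurveVA.Canonical
import Groth.Agent.CurveGenusZero.Basic
import Groth.Agent.Lib.CurveCanonical
import Groth.Agent.Lib.CurveAmple

/-!
# The pencil trick with a correction term, and pencils without base points

For a base-point-free pencil `M` with inverse `D`, `2 h⁰(N) ≤ h⁰(M ⊗ N) + h⁰(D ⊗ N)`.
-/

noncomputable section

set_option autoImplicit false
set_option linter.style.haveILetI false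
set_option linter.unusedSectionVars false
set_option backward.isDefEq.respectTransparency false
set_option backward.isDefEq.respectTransparency.types false
set_option maxHeartbeats 2000000
set_option synthInstance.maxHeartbeats 400000

universe u

open CategoryTheory CategoryTheory.Limits AlgebraicGeometry TopologicalSpace Opposite

namespace Groth.Agent.SexticCurve

open Groth.Agent Groth.Agent.InvX Groth.Agent.CurvePoint Groth.Agent.H23

variable {X : Scheme.{u}}

/-- Interchanging the first two factors. -/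
def swapIso (A B C : X.Modules) :
    CohB1.tensorMod A (CohB1.tensorMod B C) ≅ CohB1.tensorMod B (CohB1.tensorMod A C) :=
  (AmpleVan.assocT A B C).symm ≪≫ (AmpleVan.tw C).mapIso (CurveTensor.commIso A B) ≪≫ AmpleVan.assocT B A C

/-- The middle four interchange. -/
def middleIso (A B C E : X.Modules) :
    CohB1.tensorMod (CohB1.tensorMod A B) (CohB1.tensorMod C E) ≅
      CohB1.tensorMod (CohB1.tensorMod A C) (CohB1.tensorMod B E) :=
  AmpleVan.assocT A B (CohB1.tensorMod C E) ≪≫ (DCoh.tensorBi.obj A).mapIso (swapIso B C E) ≪≫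
    (AmpleVan.assocT A C (CohB1.tensorMod B E)).symm

/-- Cancelling a pair of inverses. -/
def cancelLeft {A B : X.Modules} (e : CohB1.tensorMod A B ≅ Coh.structureModule X) (C : X.Modules) :
    CohB1.tensorMod (CohB1.tensorMod A B) C ≅ C :=
  (AmpleVan.tw C).mapIso e ≪≫ CurveTensor.structureTensorIso C

variable (k : Type u) [Field k] [IsAlgClosed k] [X.Over (Spec (CommRingCat.of k))]
  [IsIntegral X] [IsProper (X ↘ Spec (CommRingCat.of k))] [Smooth (X ↘ Spec (CommRingCat.of k))]

/-- Two invertible modules with sections have a common point at which twisting lowers both `h⁰`. -/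
theorem exists_point_h0_lt₂ (hdim : topologicalKrullDim X = 1) {M N : X.Modules} (hM : PicF.IsInvertible M)
    (hN : PicF.IsInvertible N) (h : Module.finrank k (Coh.HH X M 0) ≠ 0) (h' : Module.finrank k (Coh.HH X N 0) ≠ 0) :
    ∃ (a : X) (ha : IsClosed ({a} : Set X)),
      Module.finrank k (Coh.HH X (CohB1.tensorMod (ptMod a ha) M) 0) + 1 = Module.finrank k (Coh.HH X M 0) ∧
      Module.finrank k (Coh.HH X (CohB1.tensorMod (ptMod a ha) N) 0) + 1 = Module.finrank k (Coh.HH X N 0) := by
  haveI := CurveCohLib.isNoetherian_of_proper (k := k) (X := X)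
  haveI : JacobsonSpace X := LocallyOfFiniteType.jacobsonSpace (X ↘ Spec (CommRingCat.of k))
  obtain ⟨s, hs⟩ := CurveRR.exists_hom_ne_zero k (P := M) h
  obtain ⟨s', hs'⟩ := CurveRR.exists_hom_ne_zero k (P := N) h'
  obtain ⟨U, hU, e, he⟩ := exists_frame hM (genericPoint X)
  obtain ⟨U', hU', e', he'⟩ := exists_frame hN (genericPoint X)
  obtain ⟨b, hb0, hb⟩ := CurveVA.exists_coord_ne_zero hM s hs he hU
  obtain ⟨b', hb0', hb'⟩ := CurveVA.exists_coord_ne_zero hN s' hs' he' hU'
  have hgen : ∀ {V : X.Opens} (c : Γ(X, V)), c ≠ 0 → genericPoint X ∈ X.basicOpen c := fun c hc => by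
    refine ((genericPoint_spec X).mem_open_set_iff (X.basicOpen c).2).2 ?_
    simpa [Set.nonempty_iff_ne_empty] using fun h0 =>
      hc (eq_zero_of_basicOpen_eq_bot c (Opens.ext (by simpa using h0)))
  obtain ⟨a, ⟨hab, hab'⟩, hac⟩ := nonempty_inter_closedPoints
    (Z := ((X.basicOpen b : Set X) ∩ (X.basicOpen b' : Set X)))
    ⟨genericPoint X, hgen b hb0, hgen b' hb0'⟩ (((X.basicOpen b).2.inter (X.basicOpen b').2).isLocallyClosed)
  rw [mem_closedPoints_iff] at hac
  have key : ∀ {L : X.Modules} (hL : PicF.IsInvertible L) (σ : Coh.structureModule X ⟶ L) {V : X.Opens}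
      {f : Γ(L, V)} (hf : IsFrame f) (c : Γ(X, V)), a ∈ X.basicOpen c →
      AModX.res L (le_top : V ≤ ⊤) (σ.app ⊤ (1 : Γ(X, ⊤))) = c • f →
      Module.finrank k (Coh.HH X (CohB1.tensorMod (ptMod a hac) L) 0) + 1 = Module.finrank k (Coh.HH X L 0) := by
    intro L hL σ V f hf c hac' hc
    have haV : a ∈ V := X.basicOpen_le c hac'
    obtain ⟨ψ, hψ, hJ⟩ := CurveVA.exists_twist k hdim hL hac
    have h1 := CurveVA.h0_lt k (CurveDeg.isCoh_of_isInvertible hL) ψ (σ.app ⊤ (1 : Γ(X, ⊤))) fun t ht => by
      have hm := hJ.coord_mem hf haV t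
      rw [ht, CurveVA.ptJ_self, ← InvX.germ_res' (le_top : V ≤ ⊤) haV, hc, QCoh.germ_smul', CurveVA.coord_smul_germ] at hm
      exact (IsLocalRing.mem_maximalIdeal _).1 hm ((X.mem_basicOpen c a haV).1 hac')
    have h2 := CurveVA.h0_twist_ge k hL hac
    omega
  exact ⟨a, hac, key hM s he b hab hb, key hN s' he' b' hab' hb'⟩

/-- Twisting down by a point does not increase sections. -/
theorem h0_twist_le (hdim : topologicalKrullDim X = 1) {L : X.Modules} (hL : PicF.IsInvertible L) {p : X}
    (hp : IsClosed ({p} : Set X)) :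
    Module.finrank k (Coh.HH X (CohB1.tensorMod (ptMod p hp) L) 0) ≤ Module.finrank k (Coh.HH X L 0) := by
  haveI := CurveCohLib.isNoetherian_of_proper (k := k) (X := X)
  obtain ⟨ψ, hψ, -⟩ := CurveVA.exists_twist k hdim hL hp
  haveI := CurveCohLib.finite_HH (k := k) (CurveDeg.isCoh_of_isInvertible hL) 0
  exact CurveAmple.finrank_h0_le (k := k) ψ (CurveDeg.isCoh_of_isInvertible hL)

/-- An effective module of degree zero is trivial. -/
theorem nonempty_iso_of_deg_zero (hdim : topologicalKrullDim X = 1) {T : X.Modules} (hT : PicF.IsInvertible T)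
    (hd : Curv2.deg k X T 1 = 0) (h : Module.finrank k (Coh.HH X T 0) ≠ 0) :
    Nonempty (Coh.structureModule X ≅ T) := by
  obtain ⟨s, hs⟩ := CurveRR.exists_hom_ne_zero k (P := T) h
  haveI := (CurveDeg.deg_le_and_isIso k hdim.le CurveDeg.isInvertible_structureModule hT s hs).2
    (by rw [CurveDeg.deg_structureModule, hd])
  exact ⟨asIso s⟩

/-- The base-point-free pencil trick with its correction term. -/
theorem two_mul_h0_le_add (hdim : topologicalKrullDim X = 1) {M D : X.Modules} (hM : PicF.IsInvertible M)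
    (hD : PicF.IsInvertible D) (e : CohB1.tensorMod M D ≅ Coh.structureModule X)
    (h2 : Module.finrank k (Coh.HH X M 0) = 2)
    (hgg : ∀ (p : X) (hp : IsClosed ({p} : Set X)),
      Module.finrank k (Coh.HH X ((DCoh.tensorBi.obj M).obj (CurvePoint.ptMod p hp)) 0) <
        Module.finrank k (Coh.HH X M 0)) :
    ∀ (n : ℕ) (N : X.Modules), PicF.IsInvertible N → Module.finrank k (Coh.HH X (CohB1.tensorMod D N) 0) = n →
      2 * Module.finrank k (Coh.HH X N 0) ≤
        Module.finrank k (Coh.HH X (CohB1.tensorMod M N) 0) + Module.finrank k (Coh.HH X (CohB1.tensorMod D N) 0) := by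
  haveI := CurveCohLib.isNoetherian_of_proper (k := k) (X := X)
  intro n
  induction n with
  | zero =>
    intro N hN hn
    have hom0 : ∀ φ : M ⟶ N, φ = 0 := fun φ => by
      obtain ⟨t, ht⟩ := CurveDuality.exists_homOfTwist k e φ
      haveI : Subsingleton (Coh.HH X ((DCoh.tensorBi.obj D).obj N) 0) := by
        haveI := CurveCohLib.finite_HH (k := k) (CurveDeg.isCoh_of_isInvertible (InvX.isInvertible_tensorMod hD hN)) 0
        exact (Module.finrank_zero_iff.1 hn : Subsingleton (Coh.HH X (CohB1.tensorMod D N) 0))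
      by_contra hφ
      refine hφ ?_
      rw [← ht, Subsingleton.elim t 0]
      have h0 : CurveSpecial.homOfClass (0 : Coh.HH X ((DCoh.tensorBi.obj D).obj N) 0) = 0 := by
        have h := CurveSpecial.homOfClass_add (0 : Coh.HH X ((DCoh.tensorBi.obj D).obj N) 0) 0
        rw [add_zero] at h
        exact left_eq_add.1 h
      unfold CurveDuality.homOfTwist
      rw [h0, Functor.map_zero, zero_comp, comp_zero]
    have := CurveCohLib.Pencil.two_mul_h0_le k hdim hM hN h2 hgg hom0
    omega
  | succ n ih =>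
    intro N hN hn
    by_cases hN0 : Module.finrank k (Coh.HH X N 0) = 0
    · omega
    obtain ⟨P, hP, hr⟩ := CurveGenusZero.exists_regular_closed k hdim (X := X)
    haveI := hr
    have hhopf := CurveCohLib.Hopf.finrank_tensor k hdim hP hM hN
      (Module.nontrivial_of_finrank_pos (R := k) (by omega)) (Module.nontrivial_of_finrank_pos (R := k) (by omega))
    obtain ⟨a, ha, h1, h3⟩ := exists_point_h0_lt₂ k hdim (InvX.isInvertible_tensorMod hD hN)
      (InvX.isInvertible_tensorMod hM hN) (by omega) (by omega)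
    have hI := isInvertible_ptMod a ha k hdim
    have h4 := ih (CohB1.tensorMod (ptMod a ha) N) (InvX.isInvertible_tensorMod hI hN)
      (by rw [(CurveCohLib.hhEquiv (k := k) (swapIso D (ptMod a ha) N) 0).finrank_eq]; omega)
    rw [(CurveCohLib.hhEquiv (k := k) (swapIso D (ptMod a ha) N) 0).finrank_eq,
      (CurveCohLib.hhEquiv (k := k) (swapIso M (ptMod a ha) N) 0).finrank_eq] at h4
    have h5 := CurveVA.h0_twist_ge k hN ha
    omega

/-- Base points can be removed from a pencil. -/
theorem exists_bpf_pencil (hdim : topologicalKrullDim X = 1) {R : X.Modules} (hR : PicF.IsInvertible R) :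
    ∀ (d : ℕ) (M : X.Modules), PicF.IsInvertible M → Module.finrank k (Coh.HH X M 0) = 2 →
      Curv2.deg k X M 1 = d →
    ∃ M' : X.Modules, PicF.IsInvertible M' ∧ Module.finrank k (Coh.HH X M' 0) = 2 ∧
      (∀ (p : X) (hp : IsClosed ({p} : Set X)),
        Module.finrank k (Coh.HH X ((DCoh.tensorBi.obj M').obj (CurvePoint.ptMod p hp)) 0) <
          Module.finrank k (Coh.HH X M' 0)) ∧
      Module.finrank k (Coh.HH X (CohB1.tensorMod R M') 0) ≤ Module.finrank k (Coh.HH X (CohB1.tensorMod R M) 0) := by
  intro d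
  induction d with
  | zero =>
    intro M hM h2 hd
    have := CurveCohLib.Clifford.dichotomy k hdim hM (m := 1) (by omega)
    omega
  | succ d ih =>
    intro M hM h2 hd
    by_cases hgg : ∀ (p : X) (hp : IsClosed ({p} : Set X)),
        Module.finrank k (Coh.HH X ((DCoh.tensorBi.obj M).obj (CurvePoint.ptMod p hp)) 0) <
          Module.finrank k (Coh.HH X M 0)
    · exact ⟨M, hM, h2, hgg, le_rfl⟩
    push Not at hgg
    obtain ⟨p, hp, hle⟩ := hgg
    have hI := isInvertible_ptMod p hp k hdim
    have hle' : Module.finrank k (Coh.HH X M 0) ≤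
        Module.finrank k (Coh.HH X (CohB1.tensorMod (ptMod p hp) M) 0) := by
      exact hle.trans (CurveCohLib.hhEquiv (k := k) (CurveTensor.commIso M (ptMod p hp)) 0).finrank_eq.le
    have hge := h0_twist_le k hdim hM hp
    have hd' : Curv2.deg k X (CohB1.tensorMod (ptMod p hp) M) 1 = d := by
      have h := CurveRR.deg_tensor k hdim hI hM
      rw [deg_ptMod p hp k, hd] at h
      exact h.trans (by push_cast; ring)
    obtain ⟨M', hM', h2', hgg', hle2⟩ := ih _ (InvX.isInvertible_tensorMod hI hM) (by omega) hd'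
    refine ⟨M', hM', h2', hgg', hle2.trans ?_⟩
    rw [(CurveCohLib.hhEquiv (k := k) (swapIso R (ptMod p hp) M) 0).finrank_eq]
    exact h0_twist_le k hdim (InvX.isInvertible_tensorMod hR hM) hp

end Groth.Agent.SexticCurve
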